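import Cfsg.Agent.Lib.LeechCount.McLPoint.Data

/-!
The stabiliser of one of the 275 points has order 3265920 and is generated by two elements: a
stabiliser chain on the 552 vectors gives the lower bound, the orbit of length 275 the upper one.
-/

set_option autoImplicit false

namespace Cfsg.Agent.LeechCount.McLPoint

open Cfsg Cfsg.Agent.Leech Cfsg.Agent.Golay24 Cfsg.Agent.LeechCount.Co3Rank
open Cfsg.Agent.LeechCount.Co3Out Cfsg.Agent.LeechCount.McLInv MulAction

noncomputable section

attribute [local irreducible] normFS dotFS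

/-- Fixing the vectors of the listed indices. -/
def fixSub (B : List ℕ) : Subgroup ↥G3 where
  carrier := {g | ∀ b ∈ B, b < 552 → ap (g : ↥Co0) (ptV b) = ptV b}
  one_mem' := fun b _ _ => ap_one (ptV b)
  mul_mem' := fun {g h} hg hh b hb hlt => by
    rw [Subgroup.coe_mul, ap_mul _ _ (ptV_mem hlt), hh b hb hlt, hg b hb hlt]
  inv_mem' := fun {g} hg b hb hlt => by
    conv_lhs => rw [← hg b hb hlt]
    rw [Subgroup.coe_inv, ap_inv_ap _ (ptV_mem hlt)]

theorem mem_fixSub {B : List ℕ} {g : ↥G3} :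
    g ∈ fixSub B ↔ ∀ b ∈ B, b < 552 → ap (g : ↥Co0) (ptV b) = ptV b := Iff.rfl

theorem acts_inv {g : ↥G3} {f f' : ℕ → ℕ} (hg : Acts g f)
    (h : ∀ i < 552, f' i < 552 ∧ f (f' i) = i) : Acts g⁻¹ f' := fun i hi => by
  obtain ⟨hlt, hf⟩ := h i hi
  refine ⟨hlt, ?_⟩
  have e := (hg _ hlt).2
  rw [hf] at e
  conv_lhs => rw [← e]
  rw [Subgroup.coe_inv, ap_inv_ap _ (ptV_mem hlt)]

/-- A word in the generators and their inverses. -/
def levelFn (L : Lvl) (w : List ℕ) (i : ℕ) : ℕ :=
  w.foldr (fun k t => lk ((L.gens ++ L.invs).getD k 0) t) i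

/-- The inverse tables are inverse. -/
def invB (L : Lvl) : Bool :=
  (L.invs.length == L.gens.length) && (List.range L.gens.length).all fun k =>
    (List.range 552).all fun i => Nat.blt (lk (L.invs.getD k 0) i) 552 &&
      (lk (L.gens.getD k 0) (lk (L.invs.getD k 0) i) == i)

/-- The orbit is reached by the generators. -/
def orbB (gens : List ℕ) (orbit : List ℕ) : ℕ → List (ℕ × ℕ) → Bool
  | _, [] => true
  | k, (j, g) :: rest => Nat.blt j k && Nat.blt g gens.length &&
      (lk (gens.getD g 0) (orbit.getD j 0) == orbit.getD k 0) && orbB gens orbit (k + 1) rest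

/-- One level. -/
def lvlB (B : List ℕ) (L : Lvl) (next : List ℕ) : Bool :=
  Nat.blt L.base 552 && invB L && (L.orbit.getD 0 0 == L.base) && (L.orbit.length == L.tree.length + 1) &&
    orbB L.gens L.orbit 1 L.tree && decide L.orbit.Nodup && (L.orbit.all fun i => Nat.blt i 552) &&
    (L.nextW.length == next.length) && (List.range next.length).all fun k =>
      ((L.nextW.getD k []).all fun m => Nat.blt m (L.gens.length + L.gens.length)) &&
        ((List.range 552).all fun i => levelFn L (L.nextW.getD k []) i == lk (next.getD k 0) i) &&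
        (B ++ [L.base]).all fun b => lk (next.getD k 0) b == b

/-- The generators of the first level. -/
def firstGens : List Lvl → List ℕ
  | [] => []
  | L :: _ => L.gens

/-- The chain. -/
def chainB : List ℕ → List Lvl → Bool
  | _, [] => true
  | B, L :: rest => lvlB B L (firstGens rest) && chainB (B ++ [L.base]) rest

/-- The product of the orbit lengths. -/
def chainProd : List Lvl → ℕ
  | [] => 1
  | L :: rest => L.orbit.length * chainProd rest

theorem orb_reach {K : Subgroup ↥G3} {gens orbit : List ℕ} (hg : ∀ T ∈ gens, ∃ g ∈ K, Acts g (lk T))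
    (h0 : orbit.getD 0 0 < 552) : ∀ (cert : List (ℕ × ℕ)) (k : ℕ), orbB gens orbit k cert = true →
      (∀ i < k, orbit.getD i 0 < 552 ∧ Reach K (ptV (orbit.getD 0 0)) (ptV (orbit.getD i 0))) →
      ∀ i < k + cert.length, orbit.getD i 0 < 552 ∧ Reach K (ptV (orbit.getD 0 0)) (ptV (orbit.getD i 0))
  | [], k, _, hk, i, hi => hk i (by simpa using hi)
  | (j, g) :: rest, k, h, hk, i, hi => by
    simp only [orbB, Bool.and_eq_true, Nat.blt_eq, beq_iff_eq] at h
    obtain ⟨⟨⟨hj, hgl⟩, he⟩, hr⟩ := h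
    obtain ⟨x, hx, hxa⟩ := hg (gens.getD g 0) (by rw [List.getD_eq_getElem _ _ hgl]; exact List.getElem_mem _)
    refine orb_reach hg h0 rest (k + 1) hr (fun i' hi' => ?_) i (by simp only [List.length_cons] at hi; omega)
    rcases Nat.lt_succ_iff_lt_or_eq.1 hi' with h' | rfl
    · exact hk i' h'
    obtain ⟨hjl, hjr⟩ := hk j hj
    obtain ⟨hl, hap⟩ := hxa _ hjl
    rw [he] at hl hap
    exact ⟨hl, hjr.trans (ptV_mem h0) ⟨x, hx, hap⟩⟩

theorem levelFn_acts {K : Subgroup ↥G3} {L : Lvl} (hg : ∀ T ∈ L.gens, ∃ g ∈ K, Acts g (lk T))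
    (hinv : invB L = true) : ∀ w : List ℕ, (∀ m ∈ w, m < L.gens.length + L.gens.length) →
      ∃ g ∈ K, Acts g (levelFn L w)
  | [], _ => ⟨1, K.one_mem, Acts.one⟩
  | m :: w, hm => by
    obtain ⟨g, gK, ga⟩ := levelFn_acts hg hinv w fun x hx => hm x (List.mem_cons_of_mem _ hx)
    have hml := hm m List.mem_cons_self
    simp only [invB, Bool.and_eq_true, beq_iff_eq, List.all_eq_true, List.mem_range, Nat.blt_eq] at hinv
    obtain ⟨hlen, hi⟩ := hinv
    by_cases hlt : m < L.gens.length
    · obtain ⟨x, xK, xa⟩ := hg (L.gens.getD m 0) (by rw [List.getD_eq_getElem _ _ hlt]; exact List.getElem_mem _)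
      refine ⟨x * g, K.mul_mem xK gK, (xa.mul ga).congr fun i _ => ?_⟩
      show lk ((L.gens ++ L.invs).getD m 0) (levelFn L w i) = _
      rw [List.getD_append _ _ _ _ hlt]
    · obtain ⟨x, xK, xa⟩ := hg (L.gens.getD (m - L.gens.length) 0)
        (by rw [List.getD_eq_getElem _ _ (show m - L.gens.length < L.gens.length by omega)]; exact List.getElem_mem _)
      refine ⟨x⁻¹ * g, K.mul_mem (K.inv_mem xK) gK,
        ((acts_inv xa fun i hi' => hi _ (by omega) i hi').mul ga).congr fun i _ => ?_⟩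
      show lk ((L.gens ++ L.invs).getD m 0) (levelFn L w i) = _
      rw [List.getD_append_right _ _ _ _ (Nat.not_lt.1 hlt)]

theorem chain_bound : ∀ (lv : List Lvl) (B : List ℕ) (K : Subgroup ↥G3), chainB B lv = true →
    (∀ T ∈ firstGens lv, ∃ g ∈ K ⊓ fixSub B, Acts g (lk T)) →
    chainProd lv ≤ Nat.card ↥(K ⊓ fixSub B)
  | [], _, _, _, _ => Nat.card_pos
  | L :: rest, B, K, h, hg => by
    classical
    simp only [chainB, lvlB, Bool.and_eq_true, Nat.blt_eq, beq_iff_eq, List.all_eq_true, List.mem_range,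
      decide_eq_true_eq] at h
    obtain ⟨⟨⟨⟨⟨⟨⟨⟨⟨hb, hinv⟩, h0⟩, hlen⟩, horb⟩, hnd⟩, hlt⟩, hnl⟩, hnext⟩, hrest⟩ := h
    have hreach := orb_reach (K := K ⊓ fixSub B) hg (by rw [h0]; exact hb) L.tree 1 horb
      fun i hi => by
        obtain rfl : i = 0 := (by omega)
        exact ⟨by rw [h0]; exact hb, Reach.refl _ _⟩
    have ih := chain_bound rest (B ++ [L.base]) K hrest fun T hT => by
      obtain ⟨k, hk, rfl⟩ := List.mem_iff_getElem.1 hT
      obtain ⟨⟨hw1, hw2⟩, hfix⟩ := hnext k hk
      obtain ⟨g, gK, ga⟩ := levelFn_acts hg hinv _ hw1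
      have ga' : Acts g (lk ((firstGens rest).getD k 0)) := ga.congr fun i hi => (hw2 i hi).symm
      rw [List.getD_eq_getElem _ _ hk] at ga' hfix
      refine ⟨g, ⟨gK.1, fun b hbm hbl => ?_⟩, ga'⟩
      have e := (ga' b hbl).2
      rw [hfix b hbm] at e
      exact e
    let F : Finset Vec := L.orbit.toFinset.image ptV
    have hF : F.card = L.orbit.length := by
      rw [Finset.card_image_of_injOn, List.toFinset_card_of_nodup hnd]
      intro a ha b' hb' e
      exact ptV_inj (hlt a (List.mem_toFinset.1 ha)) (hlt b' (List.mem_toFinset.1 hb')) e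
    have hcount := count_le (K := K ⊓ fixSub B) (S := K ⊓ fixSub (B ++ [L.base]))
      (inf_le_inf_left K fun g hg' b hbm => hg' b (List.mem_append_left _ hbm)) (ptV_mem hb)
      (fun s hs => hs.2 L.base (by simp) hb) F fun y hy => by
        obtain ⟨a, ha, rfl⟩ := Finset.mem_image.1 hy
        obtain ⟨i, hi, rfl⟩ := List.mem_iff_getElem.1 (List.mem_toFinset.1 ha)
        have := (hreach i (by omega)).2
        rwa [h0, List.getD_eq_getElem _ _ hi] at this
    rw [hF] at hcount
    exact (Nat.mul_le_mul_left _ ih).trans hcount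

/-- The stabiliser of the point. -/
def PS : Subgroup ↥G3 := SM ⊓ fixSub [1]

/-- The two generators. -/
def h1 : ↥G3 := wordEl hW1

/-- The two generators. -/
def h2 : ↥G3 := wordEl hW2

/-- The subgroup they generate. -/
def HP : Subgroup ↥G3 := Subgroup.closure {h1, h2}

theorem hT_check : (∀ i < 552, lk hT1 i = wordFn hW1 i) ∧ (∀ i < 552, lk hT2 i = wordFn hW2 i) ∧
    lk hT1 1 = 1 ∧ lk hT2 1 = 1 ∧ firstGens chain = [hT1, hT2] := by
  decide +kernel

theorem acts_h1 : Acts h1 (lk hT1) := (acts_word hW1).congr hT_check.1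

theorem acts_h2 : Acts h2 (lk hT2) := (acts_word hW2).congr hT_check.2.1

theorem HP_le : HP ≤ PS := by
  rw [HP, Subgroup.closure_le]
  rintro x (rfl | rfl) <;> refine ⟨word_mem _, fun b hb hlt => ?_⟩ <;> rw [List.mem_singleton] at hb <;>
    subst hb
  · have e := (acts_h1 1 hlt).2; rw [hT_check.2.2.1] at e; exact e
  · have e := (acts_h2 1 hlt).2; rw [hT_check.2.2.2.1] at e; exact e

theorem chain_ok : chainB [] chain = true := by decide +kernel

theorem chain_prod : chainProd chain = 3265920 := by decide +kernel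

theorem card_HP_ge : 3265920 ≤ Nat.card ↥HP := by
  have h := chain_bound chain [] HP chain_ok fun T hT => by
    rw [hT_check.2.2.2.2] at hT
    simp only [List.mem_cons, List.not_mem_nil, or_false] at hT
    have hf : ∀ g : ↥G3, g ∈ fixSub [] := fun g b hb => absurd hb List.not_mem_nil
    rcases hT with rfl | rfl
    · exact ⟨h1, ⟨Subgroup.subset_closure (by simp), hf _⟩, acts_h1⟩
    · exact ⟨h2, ⟨Subgroup.subset_closure (by simp), hf _⟩, acts_h2⟩
  rw [chain_prod] at h
  exact h.trans (Subgroup.card_le_of_le inf_le_left)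

theorem orb275_ok : orb275.getD 0 0 = 1 ∧ orbB [tblA, tblB, tblC, tblZ] orb275 1 tree275 = true ∧
    orb275.length = 275 ∧ tree275.length = 274 ∧ orb275.Nodup ∧ ∀ i ∈ orb275, i < 552 := by
  decide +kernel

theorem reach275 : ∀ i < 275, Reach SM (ptV 1) (ptV (orb275.getD i 0)) := by
  obtain ⟨h0, ht, -, htl, -, -⟩ := orb275_ok
  have hg : ∀ T ∈ [tblA, tblB, tblC, tblZ], ∃ g ∈ SM, Acts g (lk T) := fun T hT => by
    simp only [List.mem_cons, List.not_mem_nil, or_false] at hT
    rcases hT with rfl | rfl | rfl | rfl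
    exacts [⟨hA, iota22_mem_SM _, acts_hA⟩, ⟨hB, iota22_mem_SM _, acts_hB⟩,
      ⟨hC, iota22_mem_SM _, acts_hC⟩, ⟨_, zW1_mem_SM, acts_zW1⟩]
  intro i hi
  have h := (orb_reach hg (by rw [h0]; norm_num) tree275 1 ht (fun k hk => by
    obtain rfl : k = 0 := (by omega)
    exact ⟨by rw [h0]; norm_num, Reach.refl _ _⟩) i (by omega)).2
  rwa [h0] at h

theorem card_PS_le : 275 * Nat.card ↥PS ≤ 898128000 := by
  classical
  obtain ⟨-, -, hlen, -, hnd, hlt⟩ := orb275_ok
  let F : Finset Vec := orb275.toFinset.image ptV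
  have hF : F.card = 275 := by
    rw [Finset.card_image_of_injOn, List.toFinset_card_of_nodup hnd, hlen]
    intro a ha b hb e
    exact ptV_inj (hlt a (List.mem_toFinset.1 ha)) (hlt b (List.mem_toFinset.1 hb)) e
  have h := count_le (K := SM) (S := PS) inf_le_left (ptV_mem (by norm_num : (1 : ℕ) < 552))
    (fun s hs => hs.2 1 (by simp) (by norm_num)) F fun y hy => by
      obtain ⟨a, ha, rfl⟩ := Finset.mem_image.1 hy
      obtain ⟨i, hi, rfl⟩ := List.mem_iff_getElem.1 (List.mem_toFinset.1 ha)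
      have := reach275 i (hlen ▸ hi)
      rwa [List.getD_eq_getElem _ _ hi] at this
  rwa [hF, card_SM] at h

/-- The two elements generate the stabiliser. -/
theorem HP_eq : HP = PS ∧ Nat.card ↥PS = 3265920 := by
  have a := card_HP_ge
  have b := card_PS_le
  have c := Subgroup.card_le_of_le HP_le
  exact ⟨Subgroup.eq_of_le_of_card_ge HP_le (by omega), by omega⟩

end

end Cfsg.Agent.LeechCount.McLPoint
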