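import Cfsg.Agent.Lib.LeechCount.McLPoint.Unitary

/-!
Any admissible triple of vectors is carried to the canonical one.
-/

set_option autoImplicit false

namespace Cfsg.Agent.LeechCount.McLPoint

open Cfsg Cfsg.Agent.Leech Cfsg.Agent.Golay24 Cfsg.Agent.LeechCount.Co3Rank
open Cfsg.Agent.LeechCount.Co3Out Cfsg.Agent.LeechCount.McLInv MulAction

noncomputable section

attribute [local irreducible] normFS dotFS

theorem sqNorm_sub' (a b : Vec) : sqNorm (a - b) = sqNorm a + sqNorm b - 2 * dotInt a b := by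
  simp only [sqNorm, dotInt, Pi.sub_apply, Finset.mul_sum, ← Finset.sum_add_distrib, ← Finset.sum_sub_distrib]
  exact Finset.sum_congr rfl fun i _ => by ring

theorem dot_neg_right (a b : Vec) : dotInt a (-b) = -dotInt a b := by
  rw [dot_comm, dot_neg_left, dot_comm]

theorem ptV_zero : ptV 0 = Spor.vecU := (vecOf_lstN _).symm.trans vecU_list

theorem ptV_one_facts : sqNorm (ptV 1) = 32 ∧ dotInt Spor.vecV (ptV 1) = -24 ∧
    dotInt Spor.vecU (ptV 1) = 16 := by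
  decide +kernel

/-- The point. -/
def X1 : ↥leechLattice := ⟨ptV 1, ptV_mem (by norm_num)⟩

theorem cover552 {z : Vec} (hz : z ∈ leechLattice) (hn : sqNorm z = 32)
    (hd : dotInt Spor.vecV z = -24) : z ∈ tabFS co3Tab co3Srt := by
  classical
  have hU : sqNorm Spor.vecU = 32 ∧ dotInt Spor.vecV Spor.vecU = -24 := by decide +kernel
  have hsub : (tabFS co3Tab co3Srt).image (fun y => -y) ⊆ dotFS 24 Spor.vecV := fun w hw => by
    obtain ⟨y, hy, rfl⟩ := Finset.mem_image.1 hw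
    obtain ⟨g, -, rfl⟩ := K3_reach.2.1 y hy
    refine mem_dotFS.2 ⟨⟨neg_mem (ap_mem _ vecU_leech), ?_⟩, ?_⟩
    · rw [sqNorm_neg, ap_norm _ vecU_leech, hU.1]
    · rw [dot_neg_right]
      conv_lhs => rw [← mem_G3.1 g.2]
      rw [ap_dot _ vecV_leech vecU_leech, hU.2]
      rfl
  have heq := Finset.eq_of_subset_of_card_le hsub (by
    rw [card_dot_twentyfour vecV_leech vecV_norm, Finset.card_image_of_injective _ neg_injective, K3_reach.1])
  have hmem : -z ∈ dotFS 24 Spor.vecV :=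
    mem_dotFS.2 ⟨⟨neg_mem hz, by rw [sqNorm_neg, hn]⟩, by rw [dot_neg_right, hd]; rfl⟩
  rw [← heq, Finset.mem_image] at hmem
  obtain ⟨y, hy, e⟩ := hmem
  rw [neg_inj] at e
  exact e ▸ hy

theorem dot_codes : ∀ i < 552,
    dotL (lstN (getSlot 96 co3Tab 0)) (lstN (getSlot 96 co3Tab i)) = 16 → i ∈ orb275 := by
  decide +kernel

theorem lstN_length (c : ℕ) : (lstN c).length = 24 := by simp [lstN]

/-- The pair stabiliser is transitive on the 275 points. -/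
theorem reach_point {z : Vec} (hz : z ∈ leechLattice) (hn : sqNorm z = 32) (hd : dotInt Spor.vecV z = -24)
    (hd' : dotInt Spor.vecU z = 16) : Reach SM (ptV 1) z := by
  have h := cover552 hz hn hd
  rw [tabFS, List.mem_toFinset, List.mem_map] at h
  obtain ⟨i, hi, rfl⟩ := h
  have hlt : i < 552 := (show ∀ k ∈ co3Srt, k < 552 by decide +kernel) i hi
  rw [← vecU_list, ← vecOf_lstN (getSlot 96 co3Tab i), dot_vecOf (lstN_length _) (lstN_length _)] at hd'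
  obtain ⟨k, hk, rfl⟩ := List.mem_iff_getElem.1 (dot_codes i hlt hd')
  have := reach275 k (orb275_ok.2.2.1 ▸ hk)
  rw [List.getD_eq_getElem _ _ hk] at this
  exact this

theorem exists_move (u v x : ↥leechLattice) (hu : sqNorm (u : Vec) = 48)
    (hv : sqNorm (v : Vec) = 32) (huv : dotInt (u : Vec) v = 24)
    (hx : sqNorm (x : Vec) = 32) (hux : dotInt (u : Vec) x = 24) (hvx : dotInt (v : Vec) x = 16) :
    ∃ g : ↥Co0, g • u = U0 ∧ g • v = -U1 ∧ g • x = -X1 := by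
  obtain ⟨g, hg⟩ := (coEq48 u.2 hu).trans u.2 ((coEq48 vecV_leech vecV_norm).symm vecV_leech)
  have hgv := ap_mem g v.2
  have hgx := ap_mem g x.2
  have hv1 : -ap g (v : Vec) ∈ tabFS co3Tab co3Srt := cover552 (neg_mem hgv)
    (by rw [sqNorm_neg, ap_norm g v.2, hv])
    (by rw [dot_neg_right, ← hg, ap_dot g u.2 v.2, huv])
  obtain ⟨k, -, hk⟩ := K3_reach.2.1 _ hv1
  have hkx : ap ((k⁻¹ : ↥G3) : ↥Co0) (ap g (x : Vec)) ∈ leechLattice := ap_mem _ hgx
  have hkv : ap ((k⁻¹ : ↥G3) : ↥Co0) (ap g (v : Vec)) = -Spor.vecU := by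
    have e : ap g (v : Vec) = -ap (k : ↥Co0) Spor.vecU := by rw [hk, neg_neg]
    rw [e, ap_neg _ (ap_mem _ vecU_leech), Subgroup.coe_inv, ap_inv_ap _ vecU_leech]
  have hdV : dotInt Spor.vecV (ap ((k⁻¹ : ↥G3) : ↥Co0) (ap g (x : Vec))) = 24 := by
    conv_lhs => rw [← mem_G3.1 (k⁻¹).2]
    rw [ap_dot _ vecV_leech hgx]
    conv_lhs => rw [← hg]
    rw [ap_dot g u.2 x.2, hux]
  have hdU : dotInt (-Spor.vecU) (ap ((k⁻¹ : ↥G3) : ↥Co0) (ap g (x : Vec))) = 16 := by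
    rw [← hkv, ap_dot _ hgv hgx, ap_dot g v.2 x.2, hvx]
  obtain ⟨m, hm, hmx⟩ := reach_point (neg_mem hkx)
    (by rw [sqNorm_neg, ap_norm _ hgx, ap_norm g x.2, hx]) (by rw [dot_neg_right, hdV])
    (by rw [dot_neg_right, ← dot_neg_left, hdU])
  refine ⟨((m⁻¹ * k⁻¹ : ↥G3) : ↥Co0) * g, ?_, ?_, ?_⟩
  · rw [smul_eq_iff_ap, ap_mul _ _ u.2, hg]
    exact mem_G3.1 (m⁻¹ * k⁻¹).2
  · rw [smul_eq_iff_ap, ap_mul _ _ v.2, Subgroup.coe_mul, ap_mul _ _ hgv, hkv, ap_neg _ vecU_leech,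
      mem_SM.1 (SM.inv_mem hm)]
    rfl
  · rw [smul_eq_iff_ap, ap_mul _ _ x.2, Subgroup.coe_mul, ap_mul _ _ hgx]
    have e : ap ((k⁻¹ : ↥G3) : ↥Co0) (ap g (x : Vec)) = -ap (m : ↥Co0) (ptV 1) := by rw [hmx, neg_neg]
    rw [e, ap_neg _ (ap_mem _ (ptV_mem (by norm_num))), Subgroup.coe_inv, ap_inv_ap _ (ptV_mem (by norm_num))]
    rfl

theorem canonical_eq : stabilizer ↥Co0 U0 ⊓ stabilizer ↥Co0 (-U1) ⊓ stabilizer ↥Co0 (-X1) =
    PS.map G3.subtype := by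
  ext g
  simp only [Subgroup.mem_inf, mem_stabilizer_iff, Subgroup.mem_map, Subgroup.coe_subtype, co0_smul_neg,
    neg_inj, PS]
  constructor
  · rintro ⟨⟨h0, h1⟩, h2⟩
    refine ⟨⟨g, h0⟩, ⟨h1, fun b hb _ => ?_⟩, rfl⟩
    rw [List.mem_singleton] at hb
    subst hb
    exact (smul_eq_iff_ap g X1 X1).1 h2
  · rintro ⟨k, ⟨hk1, hk2⟩, rfl⟩
    exact ⟨⟨k.2, hk1⟩, (smul_eq_iff_ap _ X1 X1).2 (hk2 1 (by simp) (by norm_num))⟩

theorem main (u v x : ↥leechLattice) (hu : sqNorm (u : Vec) = 48)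
    (hv : sqNorm (v : Vec) = 32) (hv' : sqNorm ((u : Vec) - (v : Vec)) = 32)
    (hx : sqNorm (x : Vec) = 32) (hx' : sqNorm ((u : Vec) - (x : Vec)) = 32) (hvx : dotInt (v : Vec) x = 16)
    (F : Type) [Field F] [Fintype F] (hF : Fintype.card F = 9) :
    Nonempty (↥(stabilizer ↥Co0 u ⊓ stabilizer ↥Co0 v ⊓ stabilizer ↥Co0 x) ≃* PSU 4 F 3) := by
  rw [sqNorm_sub'] at hv' hx'
  obtain ⟨g, gu, gv, gx⟩ := exists_move u v x hu hv (by omega) hx (by omega) hvx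
  have hmap : (stabilizer ↥Co0 u ⊓ stabilizer ↥Co0 v ⊓ stabilizer ↥Co0 x).map (MulAut.conj g).toMonoidHom =
      PS.map G3.subtype := by
    rw [← canonical_eq, ← gu, ← gv, ← gx]
    ext a
    simp only [Subgroup.mem_map_equiv, MulAut.conj_symm_apply, Subgroup.mem_inf, mem_stabilizer_iff, mul_smul,
      inv_smul_eq_iff]
  obtain ⟨φ⟩ := PS_iso F hF
  exact ⟨((MulAut.conj g).subgroupMap _).trans ((MulEquiv.subgroupCongr hmap).trans
    ((PS.equivMapOfInjective G3.subtype G3.subtype_injective).symm.trans φ))⟩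

end

end Cfsg.Agent.LeechCount.McLPoint
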