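import Cfsg.Agent.Lib.LeechCount.McLPoint.Chain
import Cfsg.Agent.Lib.AutPSU.Centre
import Cfsg.Agent.Lib.LinearGroups.UnitaryOrder
import Mathlib.Algebra.QuadraticAlgebra.Basic
import Mathlib.FieldTheory.Finite.Basic
import Mathlib.NumberTheory.LegendreSymbol.Basic

/-!
The point stabiliser permutes 112 vectors as the special unitary group in dimension four over the
field with nine elements permutes the totally isotropic lines; hence it is the projective group.
-/

set_option autoImplicit false

namespace Cfsg.Agent.LeechCount.McLPoint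

open Cfsg Cfsg.Agent.Leech Cfsg.Agent.Golay24 Cfsg.Agent.LeechCount.Co3Rank
open Cfsg.Agent.LeechCount.Co3Out Cfsg.Agent.LeechCount.McLInv MulAction Matrix

noncomputable section

attribute [local irreducible] normFS dotFS

/-- The field with nine elements as a concrete ring. -/
abbrev K9 : Type := QuadraticAlgebra (ZMod 3) 2 0

/-- An entry. -/
def toK (x : ℕ × ℕ) : K9 := ⟨(x.1 : ZMod 3), (x.2 : ZMod 3)⟩

/-- The two matrices. -/
def matK : Fin 2 → Matrix (Fin 4) (Fin 4) K9 :=
  fun n => Matrix.of fun i j => toK (((if n = 0 then mat1 else mat2).getD i.val []).getD j.val (0, 0))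

/-- The data of a line. -/
def lineD (j : Fin 112) : Fin 4 × Fin 4 × List (ℕ × ℕ) × List (ℕ × ℕ) := linesL.getD j.val (0, 0, [], [])

/-- First basis vector. -/
def lineA (j : Fin 112) : Fin 4 → K9 := fun i => toK ((lineD j).2.2.1.getD i.val (0, 0))

/-- Second basis vector. -/
def lineB (j : Fin 112) : Fin 4 → K9 := fun i => toK ((lineD j).2.2.2.getD i.val (0, 0))

/-- Membership in a line, by its pivots. -/
def inLineK (j : Fin 112) (w : Fin 4 → K9) : Bool :=
  (List.finRange 4).all fun i => decide (w i = w (lineD j).1 * lineA j i + w (lineD j).2.1 * lineB j i)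

/-- The permutation of the lines. -/
def pmN (n : Fin 2) (j : Fin 112) : Fin 112 := (if n = 0 then pm1 else pm2).getD j.val 0

theorem unit_of_ne : ∀ x y : ZMod 3, (⟨x, y⟩ : K9) ≠ 0 → ∃ u v : ZMod 3, (⟨x, y⟩ : K9) * ⟨u, v⟩ = 1 := by
  decide +kernel

theorem gram_ok : ∀ n j k, (∑ i, matK n i j * matK n i k ^ 3) = if j = k then 1 else 0 := by
  decide +kernel

theorem det_ok : ∀ n, (matK n).det = 1 := by decide +kernel

theorem lines_ok : ∀ n j, inLineK (pmN n j) (matK n *ᵥ lineA j) = true ∧
    inLineK (pmN n j) (matK n *ᵥ lineB j) = true := by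
  decide +kernel

theorem lines_self : ∀ j, inLineK j (lineA j) = true ∧ inLineK j (lineB j) = true := by decide +kernel

theorem lines_distinct : ∀ i j, inLineK j (lineA i) = true → inLineK j (lineB i) = true → i = j := by
  decide +kernel

/-- The vector of a line. -/
def xj (j : Fin 112) : Vec := ptV (pts112.getD j.val 0)

theorem pts112_lt : ∀ j : Fin 112, pts112.getD j.val 0 < 552 := by decide +kernel

theorem pm_ok : ∀ j : Fin 112, lk hT1 (pts112.getD j.val 0) = pts112.getD (pmN 0 j).val 0 ∧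
    lk hT2 (pts112.getD j.val 0) = pts112.getD (pmN 1 j).val 0 := by
  decide +kernel

theorem xj_mem (j : Fin 112) : xj j ∈ leechLattice := ptV_mem (pts112_lt j)

/-- The span data of a coordinate. -/
def spanD (k : Fin 24) : ℤ × ℤ × List (ℕ × ℤ) := spanL.getD k.val (0, 0, [])

theorem span_ok : ∀ (k : Fin 24) (i : GolayPt),
    spanN * (e8L k.val).getD (idx i).val 0 = (spanD k).1 * Spor.vecV i + (spanD k).2.1 * Spor.vecU i +
      ((spanD k).2.2.map fun p => p.2 * ptV (pts112.getD p.1 0) i).sum := by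
  decide +kernel

theorem span_lt : ∀ k : Fin 24, ∀ p ∈ (spanD k).2.2, p.1 < 112 := by decide +kernel

/-- An element fixing the 112 vectors is trivial. -/
theorem eq_one_of_fix {g : ↥G3} (hg : g ∈ PS) (hx : ∀ j, ap (g : ↥Co0) (xj j) = xj j) : g = 1 := by
  let φ := coHom (g : ↥Co0)
  have hfix : ∀ {x : Vec} (hx : x ∈ leechLattice), ap (g : ↥Co0) x = x → φ ⟨x, hx⟩ = ⟨x, hx⟩ :=
    fun hx h => Subtype.ext ((ap_coe (g : ↥Co0) ⟨_, hx⟩).symm.trans h)
  refine Subtype.ext (ext_e8 fun i => ?_)
  rw [show ((1 : ↥G3) : ↥Co0) = 1 from rfl, ap_one]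
  let E : ↥leechLattice := ⟨e8 i, e8_mem i⟩
  let L : List ↥leechLattice := (spanD (idx i)).2.2.map fun p =>
    p.2 • (⟨ptV (pts112.getD p.1 0), by
      rcases Nat.lt_or_ge p.1 112 with h | h
      · exact xj_mem ⟨p.1, h⟩
      · rw [List.getD_eq_default _ _ (by rw [show pts112.length = 112 from rfl]; exact h)]
        exact ptV_mem (by norm_num)⟩ : ↥leechLattice)
  have hE : spanN • E = (spanD (idx i)).1 • U0 + (spanD (idx i)).2.1 • U1 + L.sum := by
    apply Subtype.ext
    funext x
    have h := span_ok (idx i) x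
    have hsum : ((L.sum : ↥leechLattice) : Vec) x =
        ((spanD (idx i)).2.2.map fun p => p.2 * ptV (pts112.getD p.1 0) x).sum := by
      simp only [L]
      induction (spanD (idx i)).2.2 with
      | nil => rfl
      | cons p l ih =>
        rw [List.map_cons, List.sum_cons, List.map_cons, List.sum_cons, AddSubgroup.coe_add, Pi.add_apply, ih]
        rfl
    simp only [AddSubgroup.coe_add, AddSubgroup.coe_zsmul, Pi.add_apply, Pi.smul_apply, smul_eq_mul, hsum]
    rw [show ((E : ↥leechLattice) : Vec) x = (e8L (idx i).val).getD (idx x).val 0 from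
      (congrFun (e8L_eq i) x).symm]
    exact h
  have hL : φ L.sum = L.sum := by
    rw [map_list_sum]
    refine congrArg List.sum (List.ext_getElem (by simp) fun n h1 h2 => ?_)
    rw [List.getElem_map]
    simp only [L, List.getElem_map, map_zsmul]
    congr 1
    have hp := span_lt (idx i) _ (List.getElem_mem (show n < (spanD (idx i)).2.2.length by simpa [L] using h2))
    exact hfix _ (hx ⟨_, hp⟩)
  have gU0 : φ U0 = U0 := hfix vecV_leech (mem_G3.1 g.2)
  have gU1 : φ U1 = U1 := hfix vecU_leech (mem_SM.1 hg.1)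
  have hN : spanN • φ E = spanN • E := by
    rw [← map_zsmul, hE, map_add, map_add, map_zsmul, map_zsmul, gU0, gU1, hL]
  have hE' : φ E = E := by
    apply Subtype.ext
    funext x
    have := congrFun (congrArg Subtype.val hN) x
    simp only [AddSubgroup.coe_zsmul, Pi.smul_apply, smul_eq_mul] at this
    exact mul_left_cancel₀ (by decide : spanN ≠ 0) this
  exact (ap_coe (g : ↥Co0) E).trans (congrArg Subtype.val hE')

variable {F : Type} [Field F]

/-- Membership in a line, over the field. -/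
def InLine (e : K9 →+* F) (j : Fin 112) (w : Fin 4 → F) : Prop :=
  ∀ i, w i = w (lineD j).1 * e (lineA j i) + w (lineD j).2.1 * e (lineB j i)

theorem InLine.of_K {e : K9 →+* F} {j : Fin 112} {w : Fin 4 → K9} (h : inLineK j w = true) :
    InLine e j fun i => e (w i) := fun i => by
  simp only [inLineK, List.all_eq_true, decide_eq_true_eq] at h
  have hi := congrArg e (h i (List.mem_finRange i))
  simpa [map_add, map_mul] using hi

theorem InLine.comb {e : K9 →+* F} {j : Fin 112} {v w : Fin 4 → F} (hv : InLine e j v) (hw : InLine e j w)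
    (c d : F) : InLine e j (c • v + d • w) := fun i => by
  simp only [Pi.add_apply, Pi.smul_apply, smul_eq_mul]
  linear_combination c * hv i + d * hw i

/-- The matrix moves the lines as the element moves the vectors. -/
def Compat (e : K9 →+* F) (g : ↥G3) (A : Matrix (Fin 4) (Fin 4) F) : Prop :=
  ∃ σ : Fin 112 → Fin 112, ∀ j, ap (g : ↥Co0) (xj j) = xj (σ j) ∧
    InLine e (σ j) (A *ᵥ fun i => e (lineA j i)) ∧ InLine e (σ j) (A *ᵥ fun i => e (lineB j i))

theorem Compat.one (e : K9 →+* F) : Compat e 1 1 := ⟨id, fun j => ⟨ap_one _, by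
  rw [Matrix.one_mulVec]; exact InLine.of_K (lines_self j).1, by
  rw [Matrix.one_mulVec]; exact InLine.of_K (lines_self j).2⟩⟩

theorem Compat.mul {e : K9 →+* F} {g h : ↥G3} {A B : Matrix (Fin 4) (Fin 4) F} (hg : Compat e g A)
    (hh : Compat e h B) : Compat e (g * h) (A * B) := by
  obtain ⟨σ, hσ⟩ := hg
  obtain ⟨τ, hτ⟩ := hh
  refine ⟨fun j => σ (τ j), fun j => ?_⟩
  obtain ⟨t1, t2, t3⟩ := hτ j
  obtain ⟨s1, s2, s3⟩ := hσ (τ j)
  have key : ∀ v : Fin 4 → F, InLine e (τ j) v → InLine e (σ (τ j)) (A *ᵥ v) := fun v hv => by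
    have e1 : v = v (lineD (τ j)).1 • (fun i => e (lineA (τ j) i)) +
        v (lineD (τ j)).2.1 • fun i => e (lineB (τ j) i) := funext fun i => hv i
    rw [e1, Matrix.mulVec_add, Matrix.mulVec_smul, Matrix.mulVec_smul]
    exact s2.comb s3 _ _
  refine ⟨by rw [Subgroup.coe_mul, ap_mul _ _ (xj_mem j), t1, s1], ?_, ?_⟩ <;> rw [← Matrix.mulVec_mulVec]
  exacts [key _ t2, key _ t3]

theorem exists_hom (F : Type) [Field F] [Fintype F] (hF : Fintype.card F = 9) :
    ∃ e : K9 →+* F, Function.Injective e ∧ ∀ x y : F, (x + y) ^ 3 = x ^ 3 + y ^ 3 := by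
  classical
  have h3 : ringChar F = 3 := by
    obtain ⟨n, hp, hn⟩ := FiniteField.card F (ringChar F)
    rw [hF] at hn
    have hdvd : ringChar F ∣ 9 := hn ▸ dvd_pow_self _ n.pos.ne'
    exact (Nat.prime_dvd_prime_iff_eq hp Nat.prime_three).1
      (hp.dvd_of_dvd_pow (show ringChar F ∣ 3 ^ 2 from hdvd))
  have : CharP F 3 := h3 ▸ ringChar.charP F
  have : Fact (Nat.Prime 3) := ⟨Nat.prime_three⟩
  have : ExpChar F 3 := ExpChar.prime Nat.prime_three
  let _ : Algebra (ZMod 3) F := ZMod.algebra F 3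
  obtain ⟨u, hu⟩ := (FiniteField.isSquare_neg_one_iff (F := F)).2 (by rw [hF]; norm_num)
  have h30 : (3 : F) = 0 := by exact_mod_cast CharP.cast_eq_zero F 3
  let e : K9 →ₐ[ZMod 3] F := QuadraticAlgebra.lift ⟨u, by
    rw [zero_smul, add_zero, ← hu, Algebra.smul_def, mul_one, show algebraMap (ZMod 3) F 2 = 2 from map_ofNat _ 2]
    linear_combination -h30⟩
  refine ⟨e.toRingHom, (injective_iff_map_eq_zero _).2 fun x hx => ?_, fun x y => add_pow_char x y 3⟩
  by_contra hne
  obtain ⟨a, b, h⟩ := unit_of_ne x.re x.im hne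
  have := congrArg e.toRingHom h
  rw [map_mul, show e.toRingHom ⟨x.re, x.im⟩ = 0 from hx, zero_mul, map_one] at this
  exact zero_ne_one this

theorem mem_SU_of_gram {M : Matrix.SpecialLinearGroup (Fin 4) F}
    (hadd : ∀ x y : F, (x + y) ^ 3 = x ^ 3 + y ^ 3)
    (h : ∀ j k, (∑ i, M.1 i j * M.1 i k ^ 3) = if j = k then 1 else 0) : M ∈ SU 4 F 3 := by
  intro u v
  show hermForm 4 F 3 (M.1 *ᵥ u) (M.1 *ᵥ v) = _
  have hsum : ∀ f : Fin 4 → F, (∑ i, f i) ^ 3 = ∑ i, f i ^ 3 := fun f => by
    simp only [Fin.sum_univ_four, hadd]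
  simp only [hermForm, Matrix.mulVec, dotProduct, hsum, Finset.sum_mul_sum, mul_pow]
  calc ∑ i, ∑ j, ∑ k, M.1 i j * u j * (M.1 i k ^ 3 * v k ^ 3)
      = ∑ j, ∑ k, u j * v k ^ 3 * ∑ i, M.1 i j * M.1 i k ^ 3 := by
        rw [Finset.sum_comm]
        refine Finset.sum_congr rfl fun j _ => ?_
        rw [Finset.sum_comm]
        refine Finset.sum_congr rfl fun k _ => ?_
        rw [Finset.mul_sum]
        exact Finset.sum_congr rfl fun i _ => by ring
    _ = ∑ j, u j * v j ^ 3 := by simp [h]

theorem card_psu (F : Type) [Field F] [Fintype F] (hF : Fintype.card F = 9) :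
    Nat.card (PSU 4 F 3) = 3265920 := by
  have h := UnitaryOrder.card_PSU (q := 3) (hF.trans (by norm_num)) 4 (by norm_num)
  rw [UnitaryOrder.card_GU (hF.trans (by norm_num))] at h
  norm_num [Finset.prod_range_succ, Nat.even_iff] at h
  omega

/-- The point stabiliser is the projective special unitary group. -/
theorem PS_iso (F : Type) [Field F] [Fintype F] (hF : Fintype.card F = 9) :
    Nonempty (↥PS ≃* PSU 4 F 3) := by
  classical
  obtain ⟨e, hinj, hadd⟩ := exists_hom F hF
  have : AutPSU.QField F 3 := AutPSU.QField.of_card (hF.trans (by norm_num))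
  have : Finite ↥PS := inferInstance
  let S : Fin 2 → ↥(SU 4 F 3) := fun n => ⟨⟨(matK n).map e, by
      rw [← RingHom.mapMatrix_apply, ← RingHom.map_det, det_ok, map_one]⟩,
    mem_SU_of_gram hadd fun j k => by
      show (∑ i, e (matK n i j) * e (matK n i k) ^ 3) = _
      simp only [← map_pow, ← map_mul, ← map_sum, gram_ok]
      split <;> simp⟩
  have hh : ∀ n : Fin 2, (if n = 0 then h1 else h2) ∈ PS := fun n => HP_eq.1 ▸ Subgroup.subset_closure (by
    by_cases h : n = 0 <;> simp [h])
  let Hn : Fin 2 → ↥PS := fun n => ⟨_, hh n⟩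
  let Gam : Subgroup (↥PS × ↥(SU 4 F 3)) := Subgroup.closure (Set.range fun n => (Hn n, S n))
  have hgen : ∀ n, Compat e (if n = 0 then h1 else h2) ((matK n).map e) := fun n => ⟨pmN n, fun j => by
    refine ⟨?_, ?_, ?_⟩
    · obtain ⟨p1, p2⟩ := pm_ok j
      by_cases h : n = 0
      · subst h
        rw [if_pos rfl, xj, xj, (acts_h1 _ (pts112_lt j)).2, p1]
      · have h1' : n = 1 := by omega
        subst h1'
        rw [if_neg h, xj, xj, (acts_h2 _ (pts112_lt j)).2, p2]
    all_goals
      rw [show ((matK n).map e *ᵥ fun i => e _) = fun i => e ((matK n *ᵥ _) i) from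
        funext fun i => (RingHom.map_mulVec e (matK n) _ i).symm]
    exacts [InLine.of_K (lines_ok n j).1, InLine.of_K (lines_ok n j).2]⟩
  have hcompat : ∀ x ∈ Gam, Compat e (x.1 : ↥G3) x.2.1.1 := by
    have hpow : ∀ x : ↥PS × ↥(SU 4 F 3), Compat e (x.1 : ↥G3) x.2.1.1 → ∀ m : ℕ,
        Compat e ((x ^ m).1 : ↥G3) (x ^ m).2.1.1 := by
      intro x hx m
      induction m with
      | zero => simpa using Compat.one e
      | succ m ih => rw [pow_succ]; exact ih.mul hx
    intro x hx
    induction hx using Subgroup.closure_induction with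
    | mem x hx => obtain ⟨n, rfl⟩ := hx; exact hgen n
    | one => exact Compat.one e
    | mul x y _ _ hx hy => exact hx.mul hy
    | inv x _ hx =>
      have h2 : x⁻¹ = x ^ (orderOf x - 1) := by
        refine (eq_inv_of_mul_eq_one_left ?_).symm
        rw [← pow_succ, Nat.sub_add_cancel (orderOf_pos x), pow_orderOf_eq_one]
      rw [h2]
      exact hpow x hx _
  let pr : ↥PS × ↥(SU 4 F 3) →* ↥PS × PSU 4 F 3 :=
    (MonoidHom.id _).prodMap (QuotientGroup.mk' (Subgroup.center (SU 4 F 3)))
  let P := Gam.map pr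
  let f1 : ↥P →* ↥PS := (MonoidHom.fst _ _).comp P.subtype
  let f2 : ↥P →* PSU 4 F 3 := (MonoidHom.snd _ _).comp P.subtype
  have hs1 : Function.Surjective f1 := by
    rw [← MonoidHom.range_eq_top]
    apply Subgroup.map_injective PS.subtype_injective
    rw [← MonoidHom.range_eq_map PS.subtype, Subgroup.range_subtype]
    refine le_antisymm (Subgroup.map_subtype_le _) ?_
    conv_lhs => rw [← HP_eq.1, HP]
    rw [Subgroup.closure_le]
    rintro g (rfl | rfl)
    · exact ⟨Hn 0, ⟨⟨pr (Hn 0, S 0), Subgroup.mem_map_of_mem pr (Subgroup.subset_closure ⟨0, rfl⟩)⟩, rfl⟩, rfl⟩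
    · exact ⟨Hn 1, ⟨⟨pr (Hn 1, S 1), Subgroup.mem_map_of_mem pr (Subgroup.subset_closure ⟨1, rfl⟩)⟩, rfl⟩, rfl⟩
  have hi2 : Function.Injective f2 := (injective_iff_map_eq_one f2).2 fun x hx => by
    obtain ⟨⟨g, s⟩, hgam, hgs⟩ := Subgroup.mem_map.1 x.2
    have hz : s ∈ Subgroup.center (SU 4 F 3) := by
      rw [← QuotientGroup.eq_one_iff]
      have h' : QuotientGroup.mk' (Subgroup.center (SU 4 F 3)) s = x.1.2 := congrArg Prod.snd hgs
      rw [show x.1.2 = 1 from hx] at h'
      exact h'
    obtain ⟨c, hc⟩ := AutPSU.scalar_of_mem_center (q := 3) (by norm_num) hz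
    obtain ⟨σ, hσ⟩ := hcompat _ hgam
    have hfix : ∀ j, σ j = j := fun j => by
      obtain ⟨-, hA', hB'⟩ := hσ j
      have hc0 : c ≠ 0 := by
        intro h0
        have hd : s.1.1.det = 1 := s.1.2
        have hzero : s.1.1 = 0 := Matrix.ext_of_mulVec_single fun i => by
          have := hc (Pi.single i 1)
          rw [h0, zero_smul] at this
          rw [Matrix.zero_mulVec]; exact this
        rw [hzero, Matrix.det_zero] at hd
        exact zero_ne_one hd
      have down : ∀ w : Fin 4 → K9, InLine e (σ j) (s.1.1 *ᵥ fun i => e (w i)) → inLineK (σ j) w = true := by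
        intro w hw
        simp only [inLineK, List.all_eq_true, decide_eq_true_eq]
        intro i _
        apply hinj
        have := hw i
        rw [show s.1.1 *ᵥ (fun i => e (w i)) = c • fun i => e (w i) from hc _] at this
        simp only [Pi.smul_apply, smul_eq_mul, mul_assoc, ← mul_add] at this
        simp only [map_add, map_mul]
        exact mul_left_cancel₀ hc0 this
      exact (lines_distinct j (σ j) (down _ hA') (down _ hB')).symm
    have hg1 : g = 1 := Subtype.ext (eq_one_of_fix g.2 fun j => by rw [(hσ j).1, hfix j])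
    refine Subtype.ext (Prod.ext ?_ hx)
    rw [← hgs]
    show g = 1
    exact hg1
  have hcardPS : Nat.card ↥PS = 3265920 := HP_eq.2
  have hcardPSU := card_psu F hF
  have : Finite (PSU 4 F 3) := Nat.finite_of_card_ne_zero (by rw [hcardPSU]; norm_num)
  have c1 := Nat.card_le_card_of_surjective f1 hs1
  have c2 := Nat.card_le_card_of_injective f2 hi2
  have hb1 : Function.Bijective f1 := (Nat.bijective_iff_surjective_and_card f1).2 ⟨hs1, by omega⟩
  have hb2 : Function.Bijective f2 := (Nat.bijective_iff_injective_and_card f2).2 ⟨hi2, by omega⟩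
  exact ⟨(MulEquiv.ofBijective f1 hb1).symm.trans (MulEquiv.ofBijective f2 hb2)⟩

end

end Cfsg.Agent.LeechCount.McLPoint
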